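import Cfsg.Agent.H589.BD.Defs
import Cfsg.Agent.H729.CharTwoBlock
import Cfsg.Agent.H686.CharKit
import Cfsg.Agent.H893.Sd.MemIff
import Cfsg.Agent.H996.Eight.Interval
import Cfsg.Agent.H678.Constit
import Cfsg.Agent.OddOrderCharacters.InertiaAbelian
import Cfsg.Agent.Characters.GaloisBasic
import Cfsg.Agent.Blocks.CentralProduct
import Cfsg.Agent.S0907
import Cfsg.Agent.S4438
import Cfsg.Agent.S4652

/-!
# S4932, S4953: own characteristic, the blocks of almost simple groups (helper654)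

* `mem_principal_of_over` : `U` a Sylow `p`-subgroup of the normal subgroup `N` of `A` whose centralizer in `A` is a
  `p`-group; all characters of `A` over the characters of the principal block of `N` are in the principal block;
* `degree_eq_of_abelian` : `A/N` abelian, characters over the same character of `N` have the same degree;
* `core_abelian`, `core_nonab` : four degrees in the principal block.
-/

set_option autoImplicit false
set_option linter.unusedSectionVars false

open Cfsg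
open scoped ComplexConjugate

namespace Cfsg.Agent.H654.BD

open Cfsg.Agent.Characters Cfsg.Agent.Characters.Core Cfsg.Agent.Blocks.Basic Cfsg.Agent.H589.BD
  Cfsg.Agent.H686.CharKit

universe u

variable {A : Type u} [Group A] [Finite A] {p : ℕ} [hp : Fact p.Prime] {M : Ideal AlgInt}

/-- **All characters over the principal block of `N` are in the principal block.** -/
theorem mem_principal_of_over (hM : IsPModular p M) (N : Subgroup A) [N.Normal] [Fintype N] (U : Sylow p N)
    (hU : IsPGroup p (Subgroup.centralizer (((U : Subgroup N).map N.subtype : Subgroup A) : Set A)))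
    {θ : IrrCharacter N} (hθ : θ ∈ principalBlock M N) {χ : IrrCharacter A}
    (h : classInner (fun n : N => (χ : A → ℂ) n) (θ : N → ℂ) ≠ 0) : χ ∈ principalBlock M A := by
  classical
  have := Fintype.ofFinite A
  have hprime : M.IsPrime := Blocks.Local.isPrime_of_isPModular hM
  have hB : IsPBlock M (blockOf M (χ : A → ℂ)) := isPBlock_blockOf χ
  have hQ : (((U : Subgroup N).map N.subtype).subgroupOf N) = (U : Subgroup N) := by
    rw [Subgroup.subgroupOf, Subgroup.comap_map_eq_self_of_injective N.subtype_injective]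
  obtain ⟨P, hP, hPN⟩ := S4438.result p M hM N (principalBlock M N) ⟨H893.Sd.one N, rfl⟩
    ((U : Subgroup N).map N.subtype) (Subgroup.map_subtype_le _)
    (by rw [hQ]; exact (S4652.result p M hM _).2 ⟨U, rfl⟩) (blockOf M (χ : A → ℂ)) hB
    ⟨χ, mem_blockOf_self χ, θ, hθ, h⟩
  have h1 : ((U : Subgroup N).map N.subtype : Subgroup A) ≤ P := by
    rw [← hPN]; exact inf_le_left
  have h2 : IsPGroup p (Subgroup.centralizer (P : Set A)) :=
    hU.to_le (Subgroup.centralizer_le h1)
  rw [← H729.CharTwoBlock.eq_principal_of_centralizer hM hB hP h2]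
  exact mem_blockOf_self χ

/-- The orthogonality relation of the principal block. -/
theorem orth (hM : IsPModular p M) (B : Finset (IrrCharacter A)) (hB : ∀ χ, χ ∈ B ↔ χ ∈ principalBlock M A) {u : A}
    (hu : p ∣ orderOf u) : ∑ χ ∈ B, (charDegree (χ : A → ℂ) : ℂ) * (χ : A → ℂ) u = 0 := by
  have h1 := S0907.result p M hM (principalBlock M A) ⟨H893.Sd.one A, rfl⟩ (1 : A) u⁻¹
    (by rw [orderOf_one, Nat.dvd_one]; exact hp.out.ne_one) (by rwa [orderOf_inv])
  have h2 : (B : Set (IrrCharacter A)) = principalBlock M A := Set.ext fun χ => hB χ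
  rw [← h2, finsum_mem_coe_finset] at h1
  rw [← h1]
  refine Finset.sum_congr rfl fun χ _ => ?_
  rw [isCharacter_apply_inv (isIrr_isCharacter χ.2), Complex.conj_conj, irr_one_eq_charDegree χ.2]

/-- the sum of the squares of the degrees of the characters with `N` in the kernel -/
theorem sum_sq_eq [Fintype (IrrCharacter A)] (N : Subgroup A) [N.Normal]
    [DecidablePred fun χ : IrrCharacter A => N ≤ chKer χ] :
    ∑ χ ∈ Finset.univ.filter (fun χ : IrrCharacter A => N ≤ chKer χ), charDegree (χ : A → ℂ) ^ 2 = N.index := by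
  classical
  have := Characters.Core.finite_irr (G := A ⧸ N)
  let _ := Fintype.ofFinite (IrrCharacter (A ⧸ N))
  have h1 := sum_deg_sq (G := A ⧸ N)
  rw [← Subgroup.index_eq_card] at h1
  rw [← h1]
  symm
  refine Finset.sum_bij (fun ψ _ => infl N ψ) (fun ψ _ => ?_) (fun ψ _ ψ' _ h => infl_injective N h)
    (fun χ hχ => ?_) (fun ψ _ => ?_)
  · rw [Finset.mem_filter]
    exact ⟨Finset.mem_univ _, le_chKer_infl N ψ⟩
  · obtain ⟨ψ, hψ⟩ := exists_infl N χ (Finset.mem_filter.1 hχ).2
    exact ⟨ψ, Finset.mem_univ _, hψ⟩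
  · have h2 : ((charDegree (infl N ψ : A → ℂ) : ℕ) : ℂ) = (charDegree (ψ : A ⧸ N → ℂ) : ℕ) := by
      rw [charDegree_irr, charDegree_irr, infl_apply]; rfl
    have h3 : charDegree (infl N ψ : A → ℂ) = charDegree (ψ : A ⧸ N → ℂ) := by exact_mod_cast h2
    rw [h3]

theorem isIntegral_sum (B : Finset (IrrCharacter A)) (g : A) : IsIntegral ℤ (∑ χ ∈ B, (χ : A → ℂ) g) :=
  IsIntegral.sum _ fun χ _ => GaloisBasic.isIntegral_apply (isIrr_isCharacter χ.2) g

theorem finite_cd0 : (cd0 M A).Finite := by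
  have := Characters.Core.finite_irr (G := A)
  refine ((Set.toFinite (principalBlock M A)).image fun χ : IrrCharacter A => charDegree (χ : A → ℂ)).subset ?_
  rintro x ⟨χ, hχ, rfl⟩
  exact ⟨χ, hχ, rfl⟩

theorem one_mem_cd0 (hM : IsPModular p M) : 1 ∈ cd0 M A := by
  have hprime : M.IsPrime := Blocks.Local.isPrime_of_isPModular hM
  refine ⟨H893.Sd.one A, Blocks.PrincipalSection.one_mem_principalBlock, ?_⟩
  have h1 := irr_one_eq_charDegree (H893.Sd.one A).2
  have h2 : ((H893.Sd.one A : IrrCharacter A) : A → ℂ) 1 = 1 := rfl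
  rw [h2] at h1
  exact_mod_cast h1.symm

/-! ### nonabelian quotient -/

/-- **A nonlinear character of `A/N` gives four degrees.** -/
theorem core_nonab (hM : IsPModular p M) (N : Subgroup A) [N.Normal] (hpN : p ∣ Nat.card N)
    (hker : ∀ χ : IrrCharacter A, N ≤ chKer χ → χ ∈ principalBlock M A)
    (hbig : ∀ χ : IrrCharacter A, ¬ N ≤ chKer χ → N.index < charDegree (χ : A → ℂ))
    (ζ : IrrCharacter A) (hζ : N ≤ chKer ζ) (hζ1 : charDegree (ζ : A → ℂ) ≠ 1) : 3 < (cd0 M A).ncard := by
  classical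
  have hfin := Core.finite_irr (G := A)
  have := Fintype.ofFinite (IrrCharacter A)
  have hidx : 0 < N.index := Nat.pos_of_ne_zero N.index_ne_zero_of_finite
  by_contra hcon
  set B : Finset (IrrCharacter A) := Finset.univ.filter (· ∈ principalBlock M A) with hBdef
  have hB : ∀ χ, χ ∈ B ↔ χ ∈ principalBlock M A := fun χ => by rw [hBdef, Finset.mem_filter]; simp
  set K : Finset (IrrCharacter A) := Finset.univ.filter (fun χ => N ≤ chKer χ) with hK
  have hKB : K ⊆ B := by
    intro χ hχ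
    rw [hK, Finset.mem_filter] at hχ
    exact (hB χ).2 (hker χ hχ.2)
  set z := charDegree (ζ : A → ℂ) with hz
  have hzle : z ≤ N.index := by
    have h1 : z ^ 2 ≤ ∑ χ ∈ K, charDegree (χ : A → ℂ) ^ 2 :=
      Finset.single_le_sum (f := fun χ : IrrCharacter A => charDegree (χ : A → ℂ) ^ 2) (fun _ _ => Nat.zero_le _)
        (by rw [hK, Finset.mem_filter]; exact ⟨Finset.mem_univ _, hζ⟩)
    rw [hK, sum_sq_eq] at h1
    nlinarith [Nat.zero_le z]
  obtain ⟨u, hu⟩ := exists_prime_orderOf_dvd_card' p hpN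
  have huo : p ∣ orderOf (u : A) := by rw [Subgroup.orderOf_coe, hu]
  have h0 := orth hM B hB huo
  rw [← Finset.sum_sdiff hKB] at h0
  have hKs : ∑ χ ∈ K, (charDegree (χ : A → ℂ) : ℂ) * (χ : A → ℂ) u = (N.index : ℂ) := by
    rw [← sum_sq_eq N, Nat.cast_sum]
    refine Finset.sum_congr rfl fun χ hχ => ?_
    rw [Finset.mem_filter] at hχ
    rw [mem_chKer.1 (hχ.2 u.2), Nat.cast_pow, ← charDegree_irr, sq]
  rw [hKs] at h0
  -- there is a character which is not trivial on `N`
  have hex : (B \ K).Nonempty := by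
    by_contra h1
    rw [Finset.not_nonempty_iff_eq_empty] at h1
    rw [h1, Finset.sum_empty, zero_add] at h0
    exact absurd (by exact_mod_cast h0 : N.index = 0) hidx.ne'
  have hBK : ∀ χ ∈ B \ K, ¬ N ≤ chKer χ := by
    intro χ hχ h1
    rw [Finset.mem_sdiff] at hχ
    exact hχ.2 (by rw [hK, Finset.mem_filter]; exact ⟨Finset.mem_univ _, h1⟩)
  obtain ⟨χ1, hχ1⟩ := hex
  set b := charDegree (χ1 : A → ℂ) with hb
  have hbb : N.index < b := hbig χ1 (hBK χ1 hχ1)
  have h1 : ({1, z, b} : Set ℕ) ⊆ cd0 M A := by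
    rintro x (rfl | rfl | rfl)
    · exact one_mem_cd0 hM
    · exact ⟨ζ, hker ζ hζ, rfl⟩
    · exact ⟨χ1, (hB χ1).1 (Finset.mem_sdiff.1 hχ1).1, rfl⟩
  have h3 : ({1, z, b} : Set ℕ).ncard = 3 := by
    rw [Set.ncard_eq_three]
    exact ⟨1, z, b, by omega, by omega, by omega, rfl⟩
  have h4 := Set.eq_of_subset_of_ncard_le h1 (by omega) finite_cd0
  have hdeg : ∀ χ ∈ B \ K, charDegree (χ : A → ℂ) = b := by
    intro χ hχ
    have h5 : charDegree (χ : A → ℂ) ∈ cd0 M A := ⟨χ, (hB χ).1 (Finset.mem_sdiff.1 hχ).1, rfl⟩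
    rw [← h4] at h5
    have h6 := hbig χ (hBK χ hχ)
    rcases h5 with h5 | h5 | h5
    · omega
    · omega
    · exact h5
  rw [Finset.sum_congr rfl (fun χ hχ => by rw [hdeg χ hχ]), ← Finset.mul_sum] at h0
  have hb0 : (b : ℂ) ≠ 0 := by exact_mod_cast (by omega : b ≠ 0)
  have h7 : ∑ χ ∈ B \ K, (χ : A → ℂ) (u : A) = ((-(N.index : ℚ) / b : ℚ) : ℂ) := by
    push_cast
    rw [eq_div_iff hb0]
    linear_combination h0
  have h8 := isIntegral_sum (B \ K) (u : A)
  rw [h7] at h8
  obtain ⟨y, hy⟩ := Blocks.CentralProduct.exists_int_of_isIntegral h8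
  have hb1 : (b : ℚ) ≠ 0 := by exact_mod_cast (by omega : b ≠ 0)
  rw [eq_div_iff hb1] at hy
  have h9 : (b : ℤ) ∣ (N.index : ℤ) := ⟨-y, by
    have : (y * b : ℤ) = -(N.index : ℤ) := by exact_mod_cast hy
    linarith⟩
  have h10 := Nat.le_of_dvd hidx (Int.natCast_dvd_natCast.1 h9)
  omega

/-! ### abelian quotient -/

/-- **Characters over a common character of `N` have the same degree if `A/N` is abelian.** -/
theorem degree_eq_of_abelian (N : Subgroup A) [hN : N.Normal] [Fintype N] (hab : ∀ x y : A, x * y * x⁻¹ * y⁻¹ ∈ N)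
    {χ ψ : A → ℂ} (hχ : IsIrrCharacter A χ) (hψ : IsIrrCharacter A ψ)
    (h : classInner (fun n : N => χ n) (fun n : N => ψ n) ≠ 0) : charDegree χ = charDegree ψ := by
  classical
  have := Fintype.ofFinite A
  let _ : CommGroup (A ⧸ N) :=
    { (inferInstance : Group (A ⧸ N)) with
      mul_comm := by
        intro x y
        obtain ⟨x, rfl⟩ := QuotientGroup.mk_surjective x
        obtain ⟨y, rfl⟩ := QuotientGroup.mk_surjective y
        rw [← QuotientGroup.mk_mul, ← QuotientGroup.mk_mul, QuotientGroup.eq]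
        have h1 := hab y⁻¹ x⁻¹
        have h2 : (x * y)⁻¹ * (y * x) = y⁻¹ * x⁻¹ * (y⁻¹)⁻¹ * (x⁻¹)⁻¹ := by group
        rw [h2]
        exact h1 }
  have : Fintype ((A ⧸ N) →* ℂˣ) := Fintype.ofFinite _
  have h1 : ∀ a : A ⧸ N, (∑ f : (A ⧸ N) →* ℂˣ, (f a : ℂ)) = if a = 1 then (Nat.card (A ⧸ N) : ℂ) else 0 := by
    intro a
    rw [OddOrderCharacters.InertiaAbelian.sum_hom_apply a]
    by_cases ha : a = 1
    · rw [if_pos ha, if_pos ha]
    · rw [if_neg ha, if_neg ha]
  have h2 : ∑ f : (A ⧸ N) →* ℂˣ, classInner (fun t : A => (f (t : A ⧸ N) : ℂ) * χ t) ψ =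
      classInner (fun n : N => χ n) (fun n : N => ψ n) := by
    simp only [Core.classInner_def]
    rw [← Finset.mul_sum, Finset.sum_comm]
    have h3 : ∀ t : A, ∑ f : (A ⧸ N) →* ℂˣ, (f (t : A ⧸ N) : ℂ) * χ t * conj (ψ t) =
        if t ∈ N then (Nat.card (A ⧸ N) : ℂ) * (χ t * conj (ψ t)) else 0 := by
      intro t
      rw [Finset.sum_congr rfl (g := fun f : (A ⧸ N) →* ℂˣ => (f (t : A ⧸ N) : ℂ) * (χ t * conj (ψ t)))
        (fun f _ => by ring), ← Finset.sum_mul, h1]
      by_cases ht : t ∈ N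
      · rw [if_pos ht, if_pos ((QuotientGroup.eq_one_iff t).2 ht)]
      · rw [if_neg ht, if_neg (fun h => ht ((QuotientGroup.eq_one_iff t).1 h)), zero_mul]
    rw [Finset.sum_congr rfl fun t _ => h3 t, ← Finset.sum_filter, ← Finset.mul_sum]
    have h4 : ∑ t ∈ Finset.univ.filter (fun t : A => t ∈ N), χ t * conj (ψ t) = ∑ n : N, χ n * conj (ψ n) :=
      Finset.sum_subtype (p := fun t : A => t ∈ N) _ (fun t => by rw [Finset.mem_filter]; simp) _
    rw [h4, ← mul_assoc]
    congr 1
    rw [Subgroup.card_eq_card_quotient_mul_card_subgroup N]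
    have h5 : (Nat.card (A ⧸ N) : ℂ) ≠ 0 := card_ne_zero_complex
    have h6 : (Nat.card N : ℂ) ≠ 0 := card_ne_zero_complex
    push_cast
    field_simp
  rw [← h2] at h
  obtain ⟨f, -, hf⟩ := Finset.exists_ne_zero_of_sum_ne_zero h
  have h3 := OddOrderCharacters.InertiaAbelian.isIrr_mul_hom (f.comp (QuotientGroup.mk' N)) hχ
  have h4 : (fun t : A => (f (t : A ⧸ N) : ℂ) * χ t) = ψ := by
    by_contra hne
    exact hf (classInner_irr_ne h3 hψ hne)
  rw [← h4]
  unfold charDegree
  simp

theorem exists_under (N : Subgroup A) [N.Normal] [Fintype N] (χ : IrrCharacter A) :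
    ∃ θ : IrrCharacter N, classInner (fun n : N => (χ : A → ℂ) n) (θ : N → ℂ) ≠ 0 := by
  have h1 : IsCharacter N (fun n : N => (χ : A → ℂ) n) := isCharacter_comp N.subtype (isIrr_isCharacter χ.2)
  obtain ⟨θ, hθ, h2⟩ := H678.Constit.exists_constituent h1 (fun h => by
    have h3 := congrFun h 1
    exact isIrr_apply_one_ne_zero χ.2 h3)
  exact ⟨⟨θ, hθ⟩, h2⟩

/-- **Four degrees if `A/N` is abelian and `A` has five degrees.** -/
theorem core_abelian (N : Subgroup A) [N.Normal] [Fintype N] (hab : ∀ x y : A, x * y * x⁻¹ * y⁻¹ ∈ N)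
    (st : IrrCharacter N)
    (hover : ∀ (χ : IrrCharacter A) (θ : IrrCharacter N), θ ≠ st →
      classInner (fun n : N => (χ : A → ℂ) n) (θ : N → ℂ) ≠ 0 → χ ∈ principalBlock M A)
    (h5 : 5 ≤ (charDegrees A).ncard) : 3 < (cd0 M A).ncard := by
  classical
  -- two characters outside the principal block have the same degree
  have key : ∀ χ ψ : IrrCharacter A, χ ∉ principalBlock M A → ψ ∉ principalBlock M A →
      charDegree (χ : A → ℂ) = charDegree (ψ : A → ℂ) := by
    intro χ ψ hχ hψ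
    have hfin := Core.finite_irr (G := N)
    have := Fintype.ofFinite (IrrCharacter N)
    have hres : ∀ φ : IrrCharacter A, φ ∉ principalBlock M A → ∃ c : ℂ, c ≠ 0 ∧
        (fun n : N => (φ : A → ℂ) n) = c • (st : N → ℂ) := by
      intro φ hφ
      obtain ⟨m, hm⟩ := exists_nat_comb (isCharacter_comp N.subtype (isIrr_isCharacter φ.2))
      have h1 : (fun n : N => (φ : A → ℂ) n) = ∑ θ : IrrCharacter N, m θ • (θ : N → ℂ) := hm
      have h2 : ∀ θ : IrrCharacter N, θ ≠ st → m θ = 0 := by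
        intro θ hθ
        by_contra h3
        refine hφ (hover φ θ hθ ?_)
        rw [h1, classInner_sum_nsmul_irr m θ]
        exact_mod_cast h3
      rw [Finset.sum_eq_single st (fun θ _ hθ => by rw [h2 θ hθ, zero_smul])
        (fun h => absurd (Finset.mem_univ _) h)] at h1
      refine ⟨m st, ?_, by rw [h1]; funext n; simp⟩
      intro h3
      have h4 := congrFun h1 1
      have h5 : m st = 0 := by exact_mod_cast h3
      rw [h5, zero_smul] at h4
      exact isIrr_apply_one_ne_zero φ.2 h4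
    obtain ⟨c, hc, h1⟩ := hres χ hχ
    obtain ⟨d, hd, h2⟩ := hres ψ hψ
    refine degree_eq_of_abelian N hab χ.2 ψ.2 ?_
    rw [h1, h2, classInner_smul_left, classInner_smul_right, classInner_irr_self st.2, mul_one]
    exact mul_ne_zero hc ((map_ne_zero _).2 hd)
  by_cases hall : ∀ χ : IrrCharacter A, χ ∈ principalBlock M A
  · have h1 : charDegrees A ⊆ cd0 M A := by
      rintro d ⟨χ, rfl⟩
      exact ⟨χ, hall χ, rfl⟩
    have h2 := Set.ncard_le_ncard h1 finite_cd0
    omega
  · push Not at hall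
    obtain ⟨χ0, hχ0⟩ := hall
    have h1 : charDegrees A ⊆ insert (charDegree (χ0 : A → ℂ)) (cd0 M A) := by
      rintro d ⟨χ, rfl⟩
      by_cases h : χ ∈ principalBlock M A
      · exact Or.inr ⟨χ, h, rfl⟩
      · exact Or.inl (key χ χ0 h hχ0)
    have h2 := Set.ncard_le_ncard h1 (finite_cd0.insert _)
    have h3 := Set.ncard_insert_le (charDegree (χ0 : A → ℂ)) (cd0 M A)
    omega

end Cfsg.Agent.H654.BD
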