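import Cfsg.Agent.H654.BD.OwnBlk
import Cfsg.Agent.H638.FD.Rows
import Cfsg.Agent.H947.PQ.Own
import Cfsg.Agent.H625.R4.Tools
import Cfsg.Agent.S4613

/-!
# S4932, S4953: own characteristic (helper654)

* `kill_own` : a simple group `S` of Lie type in characteristic `p` satisfies `Kill p S` unless it is `PSL(2,F)`.

`Irr(A) = B₀(A) ∪ Irr(A | St)`. If `A/N` is abelian all characters over `St` have the same degree and `A` has at least
five degrees (`H638.FD.Rows.row_lie`). If `A/N` is nonabelian, `core_nonab`.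
-/

set_option autoImplicit false

open Cfsg
open scoped ComplexConjugate

namespace Cfsg.Agent.H654.BD

open Cfsg.Agent.Characters Cfsg.Agent.Characters.Core Cfsg.Agent.Blocks.Basic Cfsg.Agent.H589.BD
  Cfsg.Agent.H686.CharKit

universe u

variable {p : ℕ} [hp : Fact p.Prime]

/-- **The centralizer of a Sylow `p`-subgroup of the socle is a `p`-group.** -/
theorem centralizer_pgroup {A : Type u} [Group A] [Finite A] (N : Subgroup A) [N.Normal] [IsSimpleGroup N]
    (hL : IsLieTypeChar p N) (hc : Subgroup.centralizer (N : Set A) = ⊥) (U : Sylow p N) :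
    IsPGroup p (Subgroup.centralizer (((U : Subgroup N).map N.subtype : Subgroup A) : Set A)) := by
  rintro ⟨x, hx⟩
  refine ⟨(orderOf x).factorization p, Subtype.ext ?_⟩
  show x ^ p ^ (orderOf x).factorization p = 1
  set y := x ^ p ^ (orderOf x).factorization p with hy
  have hyo : ¬ p ∣ orderOf y := by
    rw [hy, orderOf_pow, Nat.gcd_eq_right (Nat.ordProj_dvd _ _)]
    exact Nat.not_dvd_ordCompl hp.out (orderOf_pos x).ne'
  have hyc : y ∈ Subgroup.centralizer (((U : Subgroup N).map N.subtype : Subgroup A) : Set A) :=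
    Subgroup.pow_mem _ hx _
  have h1 : ((MulAut.conjNormal y : MulAut N)) = 1 := by
    refine S4613.result p hL _ (fun h => hyo (h.trans (orderOf_map_dvd (MulAut.conjNormal : A →* MulAut N) y))) U ?_
    intro u hu
    apply Subtype.ext
    rw [MulAut.conjNormal_apply]
    have h2 := Subgroup.mem_centralizer_iff.1 hyc (u : A) ⟨u, hu, rfl⟩
    rw [← h2, mul_inv_cancel_right]
  have h2 : y ∈ Subgroup.centralizer (N : Set A) := by
    rw [Subgroup.mem_centralizer_iff]
    intro n hn
    have h3 := congrArg Subtype.val (DFunLike.congr_fun h1 (⟨n, hn⟩ : N))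
    rw [MulAut.conjNormal_apply, MulAut.one_apply] at h3
    have h4 : y * n * y⁻¹ = n := h3
    calc n * y = (y * n * y⁻¹) * y := by rw [h4]
      _ = y * n := by group
  rw [hc, Subgroup.mem_bot] at h2
  exact h2

/-- **Own characteristic.** -/
theorem kill_own {S : Type u} [Group S] [Finite S] [IsSimpleGroup S] (hL : IsLieTypeChar p S) (hS : SizeOK S) :
    Kill p S ∨ ∃ (F : Type) (_ : Field F) (_ : Fintype F), 4 ≤ Fintype.card F ∧
      Nonempty (S ≃* Matrix.ProjectiveSpecialLinearGroup (Fin 2) F) := by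
  classical
  by_cases hex : ∃ (F : Type) (_ : Field F) (_ : Fintype F), 4 ≤ Fintype.card F ∧
      Nonempty (S ≃* Matrix.ProjectiveSpecialLinearGroup (Fin 2) F)
  · exact Or.inr hex
  left
  intro A _ _ N hN M hM
  have := hN.normal
  obtain ⟨e⟩ := hN.iso
  have hprime : M.IsPrime := Blocks.Local.isPrime_of_isPModular hM
  have := Fintype.ofFinite A
  have := Fintype.ofFinite N
  have hsN : IsSimpleGroup N := e.isSimpleGroup_congr.2 ‹_›
  have hLN : IsLieTypeChar p N := (CpQuot.Congr.isLieTypeChar_iff e p).2 hL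
  obtain ⟨st, hdeg, hst, hpN⟩ := H947.PQ.exists_st hp.out hLN
  obtain ⟨U⟩ : Nonempty (Sylow p N) := inferInstance
  have hU := centralizer_pgroup N hLN hN.cent U
  have h5 : 5 ≤ (charDegrees A).ncard := by
    rcases H638.FD.Rows.row_lie N hN.normal hN.cent hp.out hLN with h | ⟨F, i1, i2, h1, ⟨f⟩⟩
    · exact h
    · exact (hex ⟨F, i1, i2, h1, ⟨e.symm.trans f⟩⟩).elim
  have hover : ∀ (χ : IrrCharacter A) (θ : IrrCharacter N), θ ≠ st →
      classInner (fun n : N => (χ : A → ℂ) n) (θ : N → ℂ) ≠ 0 → χ ∈ principalBlock M A := fun χ θ hθ h =>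
    mem_principal_of_over hM N U hU (hst θ hθ M hM) h
  have hidx : N.index ≤ Nat.card (Out S) := by
    have : Finite (Out S) := inferInstance
    exact Nat.le_of_dvd Nat.card_pos (H625.R4.index_dvd_out N e.symm hN.cent)
  have hstone : st ≠ H893.Sd.one N := by
    intro h
    rw [h] at hdeg
    have h1 := irr_one_eq_charDegree (H893.Sd.one N).2
    have h2 : ((H893.Sd.one N : IrrCharacter N) : N → ℂ) 1 = 1 := rfl
    rw [h2] at h1
    have h3 : charDegree ((H893.Sd.one N : IrrCharacter N) : N → ℂ) = 1 := by exact_mod_cast h1.symm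
    rw [h3] at hdeg
    have h4 := hp.out.factorization_pos_of_dvd Nat.card_pos.ne' hpN
    exact (Nat.one_lt_pow h4.ne' hp.out.one_lt).ne hdeg
  by_cases hlin : ∀ χ : IrrCharacter A, N ≤ chKer χ → charDegree (χ : A → ℂ) = 1
  · -- abelian quotient
    refine core_abelian N (fun x y => ?_) st hover h5
    refine mem_of_forall_chKer N fun χ hχ => ?_
    obtain ⟨f, hf⟩ := Characters.Linear.exists_hom_of_isIrrCharacter χ.2 (by
      rw [← charDegree_irr, hlin χ hχ, Nat.cast_one])
    rw [mem_chKer, hf]
    simp only [map_mul, map_inv, map_one]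
    have h1 : f x * f y * (f x)⁻¹ * (f y)⁻¹ = 1 := by
      rw [mul_comm (f x) (f y), mul_inv_cancel_right, mul_inv_cancel]
    rw [h1]
  · push Not at hlin
    obtain ⟨ζ, hζ, hζ1⟩ := hlin
    refine core_nonab hM N hpN (fun χ hχ => ?_) (fun χ hχ => ?_) ζ hζ hζ1
    · refine hover χ (H893.Sd.one N) (Ne.symm hstone) ?_
      have h1 : (fun n : N => (χ : A → ℂ) n) = (χ : A → ℂ) 1 • ((H893.Sd.one N : IrrCharacter N) : N → ℂ) := by
        funext n
        rw [mem_chKer.1 (hχ n.2)]
        show _ = (χ : A → ℂ) 1 * 1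
        rw [mul_one]
      rw [h1, classInner_smul_left, classInner_irr_self (H893.Sd.one N).2, mul_one]
      exact isIrr_apply_one_ne_zero χ.2
    · obtain ⟨θ, hθ⟩ := exists_under N χ
      have hne : θ ≠ H893.Sd.one N := by
        rintro rfl
        apply hχ
        obtain ⟨ψ, hψ⟩ := Blocks.Deflate.exists_deflation N (χ : A → ℂ) χ.2 (by
          intro h0
          apply hθ
          rw [Core.classInner_def]
          have h1 : ∀ n : N, (χ : A → ℂ) n * conj (((H893.Sd.one N : IrrCharacter N) : N → ℂ) n) = (χ : A → ℂ) n := by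
            intro n
            show (χ : A → ℂ) n * conj (1 : ℂ) = _
            rw [map_one, mul_one]
          rw [Finset.sum_congr rfl fun n _ => h1 n, h0, mul_zero])
        intro n hn
        rw [mem_chKer, hψ, Function.comp_apply, Function.comp_apply, (QuotientGroup.eq_one_iff n).2 hn]
        rfl
      have h2 : charDegree (θ : N → ℂ) ≤ charDegree (χ : A → ℂ) :=
        H996.Eight.Interval.charDegree_le (χ := fun n : N => (χ : A → ℂ) n)
          (isCharacter_comp N.subtype (isIrr_isCharacter χ.2)) (irr_one_eq_charDegree χ.2) θ.2 hθ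
      -- transport to `S`
      have h3 := hS ⟨fun s => (θ : N → ℂ) (e.symm s),
        Blocks.CliffordCentral.isIrrCharacter_comp θ.2 e.symm.toMonoidHom e.symm.surjective⟩ (by
          by_contra h4
          push Not at h4
          apply hne
          apply Subtype.ext
          funext n
          have h5 := h4 (e n)
          have h6 : (θ : N → ℂ) (e.symm (e n)) = 1 := h5
          rw [e.symm_apply_apply] at h6
          rw [h6]; rfl)
      have h4 : charDegree (fun s => (θ : N → ℂ) (e.symm s)) = charDegree (θ : N → ℂ) := by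
        unfold charDegree
        show ⌊((θ : N → ℂ) (e.symm 1)).re⌋₊ = _
        rw [map_one]
      have h6 : Nat.card (Out S) < charDegree (fun s => (θ : N → ℂ) (e.symm s)) := h3
      omega

end Cfsg.Agent.H654.BD
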