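import Cfsg.Agent.H954.OutAllL
import Cfsg.Agent.H589.BD.Defs

/-!
# `SizeOK S` for all known simple groups (S4932 / S4953)

From helper954's `OL S` : `|Out S| < χ(1)` for all irreducible characters of degree `≠ 1`.
-/

set_option autoImplicit false

namespace Cfsg.Agent.H654.BD

open Cfsg Cfsg.Agent.H589.BD Cfsg.Agent.H954.OutDeg Cfsg.Agent.Characters

universe u

/-- A nontrivial irreducible character of a nonabelian simple group has degree `≠ 1`. -/
theorem degree_ne_one {S : Type u} [Group S] [Finite S] [IsSimpleGroup S] (hna : ¬ IsMulCommutative S)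
    {χ : IrrCharacter S} (h : ∃ g : S, (χ : S → ℂ) g ≠ 1) : charDegree (χ : S → ℂ) ≠ 1 := by
  intro h1
  have h2 : (χ : S → ℂ) 1 = 1 := by
    rw [Cfsg.Agent.Blocks.Basic.irr_one_eq_charDegree χ.2, h1, Nat.cast_one]
  obtain ⟨f, hf⟩ := Linear.exists_hom_of_isIrrCharacter χ.2 h2
  rcases (inferInstance : f.ker.Normal).eq_bot_or_eq_top with h3 | h3
  · apply hna
    have hi : Function.Injective f := (MonoidHom.ker_eq_bot_iff f).1 h3
    exact ⟨⟨fun a b => hi (by rw [map_mul, map_mul, mul_comm])⟩⟩
  · obtain ⟨g, hg⟩ := h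
    apply hg
    have h4 : f g = 1 := by
      have : g ∈ f.ker := by rw [h3]; trivial
      exact this
    have h5 := congrFun hf g
    rw [h4] at h5
    simpa using h5

/-- `SizeOK` for all known simple groups. -/
theorem sizeOK {S : Type u} [Group S] [Finite S] [IsSimpleGroup S] (hna : ¬ IsMulCommutative S)
    (h : Cfsg.IsKnownSimple' S) : SizeOK S :=
  fun χ hχ => Cfsg.Agent.H954.OutAllL.ol hna h χ (degree_ne_one hna hχ)

end Cfsg.Agent.H654.BD
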